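import Groth.Agent.AlgSpUnivThick.Descent

/-! Existence of universal first order thickenings of algebraic spaces. -/

set_option autoImplicit false
set_option backward.isDefEq.respectTransparency false
set_option backward.isDefEq.respectTransparency.types false

universe u

open CategoryTheory CategoryTheory.Limits AlgebraicGeometry Opposite AlgSp MorphismProperty
open Groth.Agent.AlgSpLib Groth.Agent.AlgSpPts

namespace Groth.Agent.AlgSpUnivThick

variable {S : Scheme.{u}}

theorem isPullback_left {P A B C : Over S} {f : P ⟶ A} {g : P ⟶ B} {h : A ⟶ C} {i : B ⟶ C}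
    (sq : IsPullback ((yon S).map f) ((yon S).map g) ((yon S).map h) ((yon S).map i)) :
    IsPullback f.left g.left h.left i.left :=
  (IsPullback.of_map (yon S) ((yon S).map_injective (by simpa using sq.w)) sq).map (Over.forget S)

theorem isFOThickMor_yon {U V : Over S} (g : U ⟶ V) (h : MoreMor.IsFirstOrderThickening g.left) :
    IsFOThickMor ((yon S).map g) := by
  refine ⟨(isThickMor_yon_map_iff g).2 h.1, fun V' W b fst snd _ _ sq => ?_⟩
  obtain ⟨b, rfl⟩ := (yon S).map_surjective b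
  obtain ⟨fst, rfl⟩ := (yon S).map_surjective fst
  exact (Groth.Agent.UnivThick.isFirstOrderThickening_baseChange (isPullback_left sq).flip h).2

theorem isUnivFOThick_yon {Z Z' V : Over S} (h : Z ⟶ V) (i : Z ⟶ Z') (h' : Z' ⟶ V)
    (hu : OmegaSh.IsUnivThickening h.left i.left h'.left) :
    IsUnivFOThick ((yon S).map h) ((yon S).map i) ((yon S).map h') := by
  have w : i ≫ h' = h := Over.OverMorphism.ext hu.2.1
  refine (isUnivFOThick_iff _ _ _ (isFOThickMor_yon i hu.1) (by rw [← Functor.map_comp, w])).2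
    fun T T' j hT hj a b hab => ?_
  obtain ⟨a, rfl⟩ := (yon S).map_surjective a
  obtain ⟨b, rfl⟩ := (yon S).map_surjective b
  rw [← Functor.map_comp, ← Functor.map_comp] at hab
  have hab' := congrArg (fun f => f.left) ((yon S).map_injective hab)
  simp only [Over.comp_left] at hab'
  obtain ⟨a', ⟨h1, h2⟩, huniq⟩ := hu.2.2 T.left T'.left j.left b.left a.left
    (isFirstOrderThickening_of_isFOThickMor_yon_map hT hj) hab'
  let A : T' ⟶ Z' := Over.homMk a' (by rw [← Over.w h', ← Category.assoc, h2]; exact Over.w b)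
  refine ⟨(yon S).map A, ⟨?_, ?_⟩, fun y hy => ?_⟩
  · rw [← Functor.map_comp, ← Functor.map_comp]
    exact congrArg _ (Over.OverMorphism.ext h1)
  · rw [← Functor.map_comp]
    exact congrArg _ (Over.OverMorphism.ext h2)
  · obtain ⟨y, rfl⟩ := (yon S).map_surjective y
    rw [← Functor.map_comp, ← Functor.map_comp] at hy
    refine congrArg _ (Over.OverMorphism.ext (huniq y.left ⟨?_, ?_⟩))
    · exact congrArg (fun f => f.left) ((yon S).map_injective hy.1)
    · have := hy.2
      rw [← Functor.map_comp] at this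
      exact congrArg (fun f => f.left) ((yon S).map_injective this)

theorem isUnivFOThick_comp {Z Z' Y X : Sp S} {hZ : Z ⟶ Y} {g : Y ⟶ X} {i : Z ⟶ Z'} {h' : Z' ⟶ Y}
    (HU : IsUnivFOThick hZ i h') (hg : IsFormallyEtaleMor g) : IsUnivFOThick (hZ ≫ g) i (h' ≫ g) := by
  refine ⟨HU.1, by rw [← Category.assoc, HU.2.1], ?_⟩
  intro T T' hT hT' j a b hj hw
  obtain ⟨c, ⟨hc₁, hc₂⟩, hc⟩ := existsUnique_lift_of_formallyEtale hg hT' hj (a ≫ hZ) b
    ((Category.assoc _ _ _).trans hw.symm)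
  obtain ⟨a', ⟨h₁, h₂⟩, ha'⟩ := HU.2.2 hT hT' j a c hj hc₁
  refine ⟨a', ⟨h₁, by rw [← Category.assoc, h₂, hc₂]⟩,
    fun y hy => ha' y ⟨hy.1, hc (y ≫ h') ⟨?_, by rw [Category.assoc]; exact hy.2⟩⟩⟩
  rw [← Category.assoc, hy.1, Category.assoc, HU.2.1]

/-- Two lifts to a universal thickening agree. -/
theorem univ_ext {Z Z' X T T' : Sp S} {h : Z ⟶ X} {i : Z ⟶ Z'} {h' : Z' ⟶ X} (HU : IsUnivFOThick h i h')
    (hT : IsAlgSpace T) (hT' : IsAlgSpace T') {j : T ⟶ T'} (hj : IsFOThickMor j) (a : T ⟶ Z) {x y : T' ⟶ Z'}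
    (hx : j ≫ x = a ≫ i) (hy : j ≫ y = a ≫ i) (hxy : x ≫ h' = y ≫ h') : x = y := by
  obtain ⟨c, -, hc⟩ := HU.2.2 hT hT' j a (x ≫ h') hj (by rw [← Category.assoc, hx, Category.assoc, HU.2.1])
  exact (hc x ⟨hx, rfl⟩).trans (hc y ⟨hy, hxy.symm⟩).symm

/-- An etale scheme over the small space lifts to the thickening, universally. -/
theorem exists_lift_univ {U U' R : Over S} {X : Sp S} {iU : (yon S).obj U ⟶ (yon S).obj U'}
    {fU : (yon S).obj U ⟶ X} {fU' : (yon S).obj U' ⟶ X} (HU : IsUnivFOThick fU iU fU')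
    (s : R ⟶ U) (hs : Etale s.left) :
    ∃ (R' : Over S) (s' : R' ⟶ U') (iR : (yon S).obj R ⟶ (yon S).obj R'),
      Etale s'.left ∧ IsPullback ((yon S).map s) iR iU ((yon S).map s') ∧
        IsUnivFOThick ((yon S).map s ≫ fU) iR ((yon S).map s' ≫ fU') := by
  obtain ⟨T, b, ε, hb, hε⟩ := EtLift.exists_lift (IsAlgSpace.yon_obj U) (IsAlgSpace.yon_obj U') HU.1.1
    ((yon S).map s) ((repWith_yon_map_iff _ s).2 hs)
  obtain ⟨s', rfl⟩ := (yon S).map_surjective b
  have sq : IsPullback ((yon S).map s) (ε.hom ≫ pullback.snd _ _) iU ((yon S).map s') := by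
    rw [← hε]
    exact (IsPullback.of_hasPullback iU ((yon S).map s')).of_iso ε.symm (Iso.refl _) (Iso.refl _) (Iso.refl _)
      (by simp) (by simp) (by simp) (by simp)
  exact ⟨T, s', _, (repWith_yon_map_iff _ s').1 hb, sq,
    isUnivFOThick_etale (IsAlgSpace.yon_obj U') (IsAlgSpace.yon_obj T) _ fU iU fU' HU _ _
      (isEtaleMor_of_repWith hb) sq⟩

/-- The lifted relation of an etale relation. -/
theorem exists_relation {Z X : Sp S} {U U' R : Over S} {a : (yon S).obj U ⟶ Z} {s t : R ⟶ U}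
    (hR : IsPullback ((yon S).map t) ((yon S).map s) a a) (hs : Etale s.left) (ht : Etale t.left)
    {h : Z ⟶ X} {iU : (yon S).obj U ⟶ (yon S).obj U'} {fU' : (yon S).obj U' ⟶ X}
    (HU : IsUnivFOThick (a ≫ h) iU fU') :
    ∃ (R' : Over S) (s' t' : R' ⟶ U') (iR : (yon S).obj R ⟶ (yon S).obj R'),
      IsEqvRel s' t' ∧ Etale s'.left ∧ Etale t'.left ∧
      (yon S).map s' ≫ fU' = (yon S).map t' ≫ fU' ∧
      IsPullback ((yon S).map s) iR iU ((yon S).map s') ∧
      IsPullback ((yon S).map t) iR iU ((yon S).map t') := by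
  obtain ⟨R', s', iR, hs', sqs, HR⟩ := exists_lift_univ HU s hs
  obtain ⟨R'', t'', iR₂, ht'', sqt₂, HR₂⟩ := exists_lift_univ HU t ht
  have hst : (yon S).map t ≫ a ≫ h = (yon S).map s ≫ a ≫ h := by rw [reassoc_of% hR.w]
  have aR := IsAlgSpace.yon_obj R
  have aR' := IsAlgSpace.yon_obj R'
  have aR'' := IsAlgSpace.yon_obj R''
  obtain ⟨φ, ⟨hφ1, hφ2⟩, -⟩ := HR₂.2.2 aR aR' iR (𝟙 _) ((yon S).map s' ≫ fU') HR.1
    (by rw [HR.2.1, hst, Category.id_comp])
  obtain ⟨ψ, ⟨hψ1, hψ2⟩, -⟩ := HR.2.2 aR aR'' iR₂ (𝟙 _) ((yon S).map t'' ≫ fU') HR₂.1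
    (by rw [HR₂.2.1, hst, Category.id_comp])
  rw [Category.id_comp] at hφ1 hψ1
  let e : (yon S).obj R' ≅ (yon S).obj R'' :=
    ⟨φ, ψ,
      univ_ext HR aR aR' HR.1 (𝟙 _) (by rw [reassoc_of% hφ1, hψ1, Category.id_comp])
        (by rw [Category.comp_id, Category.id_comp])
        (by rw [Category.id_comp, Category.assoc, hψ2, hφ2]),
      univ_ext HR₂ aR aR'' HR₂.1 (𝟙 _) (by rw [reassoc_of% hψ1, hφ1, Category.id_comp])
        (by rw [Category.comp_id, Category.id_comp])
        (by rw [Category.id_comp, Category.assoc, hφ2, hψ2])⟩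
  obtain ⟨φ₀, hφ₀⟩ := (yon S).map_surjective φ
  have : IsIso φ₀ := by
    have : IsIso ((yon S).map φ₀) := by
      rw [hφ₀]
      exact e.isIso_hom
    exact isIso_of_fully_faithful (yon S) φ₀
  let t' : R' ⟶ U' := φ₀ ≫ t''
  have hmt : (yon S).map t' = φ ≫ (yon S).map t'' := by rw [Functor.map_comp, hφ₀]
  have ht' : Etale t'.left := by
    change Etale (φ₀.left ≫ t''.left)
    have : IsIso φ₀.left := inferInstanceAs (IsIso ((Over.forget S).map φ₀))
    infer_instance
  have sqt : IsPullback ((yon S).map t) iR iU ((yon S).map t') :=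
    sqt₂.of_iso (Iso.refl _) (Iso.refl _) e.symm (Iso.refl _) (by simp) (by simp [e, hψ1])
      (by simp) (by simp [e, hmt, reassoc_of% e.inv_hom_id])
  have heq : (yon S).map s' ≫ fU' = (yon S).map t' ≫ fU' := by rw [hmt, Category.assoc, hφ2]
  have hmono : Mono iU := mono_of_thick HU.1.1
  have aU := IsAlgSpace.yon_obj U
  have aU' := IsAlgSpace.yon_obj U'
  refine ⟨R', s', t', iR, ⟨fun T r r' h1 h2 => ?_, fun T => ?_⟩, hs', ht', heq, sqs, sqt⟩
  · let x := (yon S).map (r ≫ s')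
    obtain ⟨W, q, ρu, hP⟩ := HU.1.1.rep x
    have hq : IsFOThickMor ((yon S).map q) := isFOThickMor_baseChange aU' HU.1 hP
    have w1 : ρu ≫ iU = ((yon S).map q ≫ (yon S).map r) ≫ (yon S).map s' := by
      rw [hP.w]
      simp only [x, Functor.map_comp, Category.assoc]
    have w2 : ρu ≫ iU = ((yon S).map q ≫ (yon S).map r') ≫ (yon S).map s' := by
      rw [w1, Category.assoc, Category.assoc, ← Functor.map_comp, h2, Functor.map_comp]
    have hρ : sqs.lift ρu _ w1 = sqs.lift ρu _ w2 := by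
      refine hR.hom_ext ?_ (by rw [sqs.lift_fst, sqs.lift_fst])
      rw [← cancel_mono iU, Category.assoc, Category.assoc, sqt.w, ← Category.assoc, ← Category.assoc,
        sqs.lift_snd, sqs.lift_snd, Category.assoc, Category.assoc, ← Functor.map_comp, h1, Functor.map_comp]
    have hqr : (yon S).map q ≫ (yon S).map r' = (yon S).map q ≫ (yon S).map r := by
      rw [← sqs.lift_snd ρu _ w2, ← hρ, sqs.lift_snd]
    apply (yon S).map_injective
    exact (existsUnique_lift_of_formallyEtale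
      (isFormallyEtaleMor_of_isEtaleMor aR' (isEtaleMor_of_repWith ((repWith_yon_map_iff _ s').2 hs')))
      (IsAlgSpace.yon_obj T) hq ((yon S).map q ≫ (yon S).map r) ((yon S).map (r ≫ s'))
      ((Category.assoc _ _ _).trans (congrArg _ ((yon S).map_comp _ _).symm))).unique
      ⟨rfl, (Functor.map_comp _ _ _).symm⟩ ⟨hqr, by rw [← Functor.map_comp, h2]⟩
  · refine ⟨fun x => ?_, ?_, ?_⟩
    · let e0 := hR.lift (𝟙 _) (𝟙 _) rfl
      obtain ⟨c, ⟨hc1, hc2⟩, -⟩ := HR.2.2 aU aU' iU e0 fU' HU.1 (by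
        rw [HU.2.1, ← Category.assoc e0, hR.lift_snd, Category.id_comp])
      have k1 : c ≫ (yon S).map s' = 𝟙 _ := univ_ext HU aU aU' HU.1 (𝟙 _)
        (by rw [reassoc_of% hc1, ← sqs.w, ← Category.assoc e0, hR.lift_snd])
        (by rw [Category.comp_id, Category.id_comp]) (by rw [Category.assoc, hc2, Category.id_comp])
      have k2 : c ≫ (yon S).map t' = 𝟙 _ := univ_ext HU aU aU' HU.1 (𝟙 _)
        (by rw [reassoc_of% hc1, ← sqt.w, ← Category.assoc e0, hR.lift_fst])
        (by rw [Category.comp_id, Category.id_comp]) (by rw [Category.assoc, ← heq, hc2, Category.id_comp])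
      obtain ⟨c, rfl⟩ := (yon S).map_surjective c
      rw [← Functor.map_comp, ← (yon S).map_id] at k1 k2
      exact ⟨x ≫ c, by rw [Category.assoc, (yon S).map_injective k2, Category.comp_id],
        by rw [Category.assoc, (yon S).map_injective k1, Category.comp_id]⟩
    · rintro x y ⟨r, rfl, rfl⟩
      let σ0 := hR.lift ((yon S).map s) ((yon S).map t) hR.w.symm
      obtain ⟨c, ⟨hc1, hc2⟩, -⟩ := HR.2.2 aR aR' iR σ0 ((yon S).map s' ≫ fU') HR.1 (by
        rw [HR.2.1, ← Category.assoc σ0, hR.lift_snd, hst])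
      have k1 : c ≫ (yon S).map s' = (yon S).map t' := univ_ext HU aR aR' HR.1 ((yon S).map t)
        (by rw [reassoc_of% hc1, ← sqs.w, ← Category.assoc σ0, hR.lift_snd]) sqt.w.symm
        (by rw [Category.assoc, hc2, heq])
      have k2 : c ≫ (yon S).map t' = (yon S).map s' := univ_ext HU aR aR' HR.1 ((yon S).map s)
        (by rw [reassoc_of% hc1, ← sqt.w, ← Category.assoc σ0, hR.lift_fst]) sqs.w.symm
        (by rw [Category.assoc, ← heq, hc2])
      obtain ⟨c, rfl⟩ := (yon S).map_surjective c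
      rw [← Functor.map_comp] at k1 k2
      exact ⟨r ≫ c, by rw [Category.assoc, (yon S).map_injective k2],
        by rw [Category.assoc, (yon S).map_injective k1]⟩
    · rintro x y z ⟨r₁, rfl, rfl⟩ ⟨r₂, hr₂, rfl⟩
      let P' := pullback s' t'
      let p₁ : P' ⟶ R' := pullback.fst s' t'
      let p₂ : P' ⟶ R' := pullback.snd s' t'
      obtain ⟨W, q, ρ₁, hW⟩ := HR.1.1.rep ((yon S).map p₁)
      have hq : IsFOThickMor ((yon S).map q) := isFOThickMor_baseChange aR' HR.1 hW
      have hp : (yon S).map p₁ ≫ (yon S).map s' = (yon S).map p₂ ≫ (yon S).map t' := by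
        rw [← Functor.map_comp, ← Functor.map_comp, pullback.condition]
      have w2 : (ρ₁ ≫ (yon S).map s) ≫ iU = ((yon S).map q ≫ (yon S).map p₂) ≫ (yon S).map t' := by
        rw [Category.assoc, sqs.w, reassoc_of% hW.w, hp, Category.assoc]
      let ρ₂ := sqt.lift (ρ₁ ≫ (yon S).map s) _ w2
      have wc : (ρ₁ ≫ (yon S).map t) ≫ a = (ρ₂ ≫ (yon S).map s) ≫ a := by
        rw [Category.assoc, Category.assoc, hR.w, ← Category.assoc, ← sqt.lift_fst (ρ₁ ≫ (yon S).map s) _ w2,
          Category.assoc, hR.w]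
      let c0 := hR.lift _ _ wc
      let b := (yon S).map p₁ ≫ (yon S).map s' ≫ fU'
      obtain ⟨c, ⟨hc1, hc2⟩, -⟩ := HR.2.2 (IsAlgSpace.yon_obj _) (IsAlgSpace.yon_obj P') ((yon S).map q) c0 b hq
        (by
          rw [← Category.assoc c0, hR.lift_snd, Category.assoc, ← hst, ← Category.assoc ρ₂, sqt.lift_fst,
            Category.assoc]
          change (yon S).map q ≫ (yon S).map p₁ ≫ (yon S).map s' ≫ fU' = _
          rw [← reassoc_of% hW.w, HR.2.1])
      have k1 : c ≫ (yon S).map t' = (yon S).map p₁ ≫ (yon S).map t' :=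
        univ_ext HU (IsAlgSpace.yon_obj _) (IsAlgSpace.yon_obj P') hq (ρ₁ ≫ (yon S).map t)
          (by rw [reassoc_of% hc1, ← sqt.w, ← Category.assoc c0, hR.lift_fst])
          (by rw [← reassoc_of% hW.w, ← sqt.w, Category.assoc])
          (by rw [Category.assoc, Category.assoc, ← heq]; exact hc2)
      have k2 : c ≫ (yon S).map s' = (yon S).map p₂ ≫ (yon S).map s' :=
        univ_ext HU (IsAlgSpace.yon_obj _) (IsAlgSpace.yon_obj P') hq (ρ₂ ≫ (yon S).map s)
          (by rw [reassoc_of% hc1, ← sqs.w, ← Category.assoc c0, hR.lift_snd])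
          (by
            rw [Category.assoc, sqs.w, ← Category.assoc ρ₂, sqt.lift_snd, Category.assoc])
          (by
            rw [Category.assoc, hc2, Category.assoc, heq, ← Category.assoc ((yon S).map p₂), ← hp, Category.assoc])
      obtain ⟨c, rfl⟩ := (yon S).map_surjective c
      rw [← Functor.map_comp, ← Functor.map_comp] at k1 k2
      refine ⟨pullback.lift r₁ r₂ hr₂.symm ≫ c, ?_, ?_⟩
      · rw [Category.assoc, (yon S).map_injective k1, ← Category.assoc, pullback.lift_fst]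
      · rw [Category.assoc, (yon S).map_injective k2, ← Category.assoc, pullback.lift_snd]

open Groth.Agent.AlgSpDec in
/-- A formally unramified morphism of algebraic spaces has a universal first order thickening. -/
theorem exists_univ {Z X : Sp S} (hZ : IsAlgSpace Z) (hX : IsAlgSpace X) (h : Z ⟶ X)
    (hh : IsFormallyUnramifiedMor h) :
    ∃ (Z' : Sp S) (i : Z ⟶ Z') (h' : Z' ⟶ X), IsAlgSpace Z' ∧ IsUnivFOThick h i h' := by
  obtain ⟨U, V, a, b, g, ha, has, hb, -, w⟩ := exists_chart hZ hX h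
  have hg : FormallyUnramified g.left := (isFormallyUnramifiedMor_iff_locP hZ hX h).1 hh a b g ha hb w
  obtain ⟨Z₁, i₁, h₁, hu⟩ := Groth.Agent.UnivThick.exists_univThickening g.left
  let U' : Over S := CategoryTheory.Over.mk (h₁ ≫ V.hom)
  let h₁' : U' ⟶ V := CategoryTheory.Over.homMk h₁ rfl
  let i₁' : U ⟶ U' := CategoryTheory.Over.homMk i₁ (by
    change i₁ ≫ h₁ ≫ V.hom = U.hom
    rw [← Category.assoc, hu.2.1]; exact Over.w g)
  have HU : IsUnivFOThick (a ≫ h) ((yon S).map i₁') ((yon S).map h₁' ≫ b) := by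
    rw [w]
    exact isUnivFOThick_comp (isUnivFOThick_yon g i₁' h₁' hu)
      (isFormallyEtaleMor_of_isEtaleMor (IsAlgSpace.yon_obj V) (isEtaleMor_of_repWith hb))
  obtain ⟨R, s, fst, hR₀⟩ := ha.rep a
  obtain ⟨t, rfl⟩ := (yon S).map_surjective fst
  have hse : Etale s.left := ha.2 a _ _ hR₀
  have hte : Etale t.left := ha.2 a _ _ hR₀.flip
  obtain ⟨R', s', t', iR, hE, hs'e, ht'e, heq, sqs, sqt⟩ := exists_relation hR₀ hse hte HU
  let p := Groth.Agent.AlgSpPts.quotMap s' t'
  have hloc : Sheaf.IsLocallySurjective p := Groth.Agent.AlgSpDec.isLocallySurjective_quotMap s' t'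
  have sqp := Groth.Agent.AlgSpPts.isPullback_quotMap hE
  have hs's : Surjective s'.left := ⟨fun x => by
    obtain ⟨r, -, hr2⟩ := (hE.equivalence U').refl (𝟙 U')
    exact ⟨r.left x, by rw [← Scheme.Hom.comp_apply, ← CategoryTheory.Over.comp_left, hr2,
      CategoryTheory.Over.id_left]; rfl⟩⟩
  have hZ'a : IsAlgSpace (QuotSh.quot Scheme.fppfPrecoverage s' t') := isAlgSpace_of_etale_kernelPair sqp
  have hpr : Representable p := representable_of_kernelPair sqp
  haveI := isLocalAtTarget_fppf (@Etale : MorphismProperty Scheme.{u})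
  haveI := isLocalAtTarget_fppf (@Surjective : MorphismProperty Scheme.{u})
  have hpe : RepWith @Etale p :=
    repWith_of_locallySurjective hpr _ sqp @Etale ((repWith_yon_map_iff _ _).2 hs'e)
  have hps : RepWith @Surjective p :=
    repWith_of_locallySurjective hpr _ sqp @Surjective ((repWith_yon_map_iff _ _).2 hs's)
  obtain ⟨h', hh'⟩ := exists_desc_of_kernelPair sqp ((yon S).map h₁' ≫ b) heq.symm
  have haloc : Sheaf.IsLocallySurjective a := isLocallySurjective_of_etale_surjective ha has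
  obtain ⟨i, hi⟩ := exists_desc_of_kernelPair hR₀ ((yon S).map i₁' ≫ p) (by
    rw [← Category.assoc, sqt.w, ← Category.assoc ((yon S).map s), sqs.w, Category.assoc, Category.assoc,
      sqp.w])
  let P := pullback i p
  let φ : (yon S).obj U ⟶ P := pullback.lift a ((yon S).map i₁') hi
  let κ : (yon S).obj R ⟶ P := (yon S).map s ≫ φ
  have houter : IsPullback ((yon S).map t) (κ ≫ pullback.snd i p) (a ≫ i) p := by
    have h := sqt.paste_vert sqp
    rw [show κ ≫ pullback.snd i p = iR ≫ (yon S).map s' by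
      rw [Category.assoc, pullback.lift_snd, sqs.w], hi]
    exact h
  have hκ : IsPullback ((yon S).map t) κ a (pullback.fst i p) := by
    refine IsPullback.of_bot houter ?_ (IsPullback.of_hasPullback i p)
    rw [Category.assoc, pullback.lift_fst, hR₀.w]
  have hκe : Epi κ := Groth.Agent.AlgSpLib.epi_of_etale_surjective (repWith_of_isPullback hκ ha)
    (repWith_of_isPullback hκ has)
  have : Epi φ := @epi_of_epi _ _ _ _ _ _ φ hκe
  have hmi : Mono ((yon S).map i₁') := mono_of_thick HU.1.1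
  have : Mono φ := by
    have : Mono (φ ≫ pullback.snd i p) := by rw [pullback.lift_snd]; exact hmi
    exact mono_of_mono φ (pullback.snd i p)
  have hφ : IsIso φ := isIso_of_mono_of_epi φ
  have sqi : IsPullback a ((yon S).map i₁') i p :=
    (IsPullback.of_hasPullback i p).of_iso (asIso φ).symm (Iso.refl _) (Iso.refl _) (Iso.refl _)
      (by simp [φ]) (by simp [φ]) (by simp) (by simp)
  have : IsZariskiLocalAtTarget (@IsClosedImmersion : MorphismProperty Scheme.{u}) := inferInstance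
  have hcl : RepWith @IsClosedImmersion i := Groth.Agent.AlgSpDec.repWith_of_etale_cover
    (fun _ _ f (hf : IsClosedImmersion f) => (inferInstance : IsAffineHom f)) hpe hps sqi
    (repWith_mono (P := thick) (fun _ _ _ hh => hh.1) _ HU.1.1)
  have hsur : RepWith @Surjective i := repWith_surjective_of_surjective hcl.rep fun z => by
    obtain ⟨u', rfl⟩ := surjective_map_of_repWith hps z
    obtain ⟨u, rfl⟩ := surjective_map_of_repWith
      (repWith_mono (P := thick) (fun _ _ _ hh => hh.2) _ HU.1.1) u'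
    exact ⟨Points.map a u, by rw [← Points.map_comp, hi, Points.map_comp]⟩
  have hthick : IsThickMor i := ⟨hcl.rep, fun _ _ g f₁ f₂ sq => ⟨hcl.2 g f₁ f₂ sq, hsur.2 g f₁ f₂ sq⟩⟩
  have hFO : IsFOThickMor i := ⟨hthick, fun V₀ W₀ b₀ f₁ f₂ hV₀ _ sq =>
    haveI : IsAffine V₀.left := hV₀
    sqZero_of_atlas hthick hpe hps sqi HU.1 b₀ f₁ f₂ sq⟩
  have hepia : Epi a := Groth.Agent.AlgSpLib.epi_of_etale_surjective ha has
  have hih : i ≫ h' = h := by
    rw [← cancel_epi a, ← Category.assoc, hi, Category.assoc, hh', HU.2.1]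
  refine ⟨_, i, h', hZ'a, (isUnivFOThick_iff h i h' hFO hih).2 fun T T' j hT hj a₀ b₀ hw => ?_⟩
  have uniq : ∀ {T T' : Over S} (j : T ⟶ T') (_ : IsFOThickMor ((yon S).map j))
      (a₀ : (yon S).obj T ⟶ Z) (x y : (yon S).obj T' ⟶ QuotSh.quot Scheme.fppfPrecoverage s' t'),
      (yon S).map j ≫ x = a₀ ≫ i → (yon S).map j ≫ y = a₀ ≫ i → x ≫ h' = y ≫ h' → x = y := by
    intro T T' j hj a₀ x y hx hy hxy
    obtain ⟨A, cA, xA, hA⟩ := hpe.rep x
    have hcAe : Etale cA.left := hpe.2 x _ _ hA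
    have hcAs : Surjective cA.left := hps.2 x _ _ hA
    obtain ⟨B, cB, yB, hB⟩ := hpe.rep ((yon S).map cA ≫ y)
    have hcBe : Etale cB.left := hpe.2 _ _ _ hB
    have hcBs : Surjective cB.left := hps.2 _ _ _ hB
    obtain ⟨B₀, jB, eB, hB₀⟩ := hj.1.rep ((yon S).map (cB ≫ cA))
    have hFB : IsFOThickMor ((yon S).map jB) := isFOThickMor_baseChange (IsAlgSpace.yon_obj T') hj hB₀
    have ex : ((yon S).map cB ≫ xA) ≫ p = (yon S).map (cB ≫ cA) ≫ x := by
      rw [Category.assoc, hA.w, Functor.map_comp, Category.assoc]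
    have ey : yB ≫ p = (yon S).map (cB ≫ cA) ≫ y := by
      rw [hB.w, Functor.map_comp, Category.assoc]
    have lift_eq : ∀ (z : (yon S).obj B ⟶ (yon S).obj U') (w : (yon S).obj T' ⟶ _),
        z ≫ p = (yon S).map (cB ≫ cA) ≫ w → (yon S).map j ≫ w = a₀ ≫ i →
        (eB ≫ a₀) ≫ i = ((yon S).map jB ≫ z) ≫ p := fun z w hz hwj => by
      rw [Category.assoc, ← hwj, ← Category.assoc, hB₀.w, Category.assoc, Category.assoc, hz]
    let α₁ := sqi.lift _ _ (lift_eq _ x ex hx)
    let α₂ := sqi.lift _ _ (lift_eq _ y ey hy)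
    let ρ := hR₀.lift α₁ α₂ (by rw [sqi.lift_fst, sqi.lift_fst])
    obtain ⟨c, ⟨hc1, hc2⟩, -⟩ := HU.2.2 (IsAlgSpace.yon_obj B₀) (IsAlgSpace.yon_obj B) ((yon S).map jB) α₁
      (((yon S).map cB ≫ xA) ≫ (yon S).map h₁' ≫ b) hFB (by
        rw [← Category.assoc _ ((yon S).map cB ≫ xA), ← sqi.lift_snd _ _ (lift_eq _ x ex hx), Category.assoc,
          HU.2.1])
    obtain ⟨m, ⟨hm1, hm2⟩, -⟩ := existsUnique_lift_of_formallyEtale
      (isFormallyEtaleMor_of_isEtaleMor (IsAlgSpace.yon_obj R')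
        (isEtaleMor_of_repWith ((repWith_yon_map_iff _ t').2 ht'e)))
      (IsAlgSpace.yon_obj B) hFB (ρ ≫ iR) ((yon S).map cB ≫ xA) (by
        rw [Category.assoc, ← sqt.w, ← Category.assoc, hR₀.lift_fst, sqi.lift_snd])
    have hms : m ≫ (yon S).map s' = yB := univ_ext HU (IsAlgSpace.yon_obj B₀) (IsAlgSpace.yon_obj B) hFB α₂
      (by rw [reassoc_of% hm1, ← sqs.w, ← Category.assoc, hR₀.lift_snd])
      (sqi.lift_snd _ _ _).symm (by
        rw [Category.assoc, heq, ← Category.assoc, hm2, ← hh', ← Category.assoc, ex, Category.assoc,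
          ← Category.assoc yB, ey, Category.assoc, hxy])
    have hepi : Epi ((yon S).map (cB ≫ cA)) := Groth.Agent.AlgSpLib.epi_of_etale_surjective
      ((repWith_yon_map_iff _ _).2 (inferInstanceAs (Etale (cB.left ≫ cA.left))))
      ((repWith_yon_map_iff _ _).2 (inferInstanceAs (Surjective (cB.left ≫ cA.left))))
    rw [← cancel_epi ((yon S).map (cB ≫ cA)), ← ex, ← ey, ← hms, ← hm2, Category.assoc, Category.assoc, sqp.w]
  suffices hex : ∃ a' : (yon S).obj T' ⟶ QuotSh.quot Scheme.fppfPrecoverage s' t',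
      (yon S).map j ≫ a' = a₀ ≫ i ∧ a' ≫ h' = b₀ by
    obtain ⟨a', h1, h2⟩ := hex
    exact ⟨a', ⟨h1, h2⟩, fun y hy => uniq j hj a₀ y a' hy.1 h1 (hy.2.trans h2.symm)⟩
  obtain ⟨T₁, q₁, x₁, hT₁⟩ := ha.rep a₀
  have hq₁e : Etale q₁.left := ha.2 a₀ _ _ hT₁
  have hq₁s : Surjective q₁.left := has.2 a₀ _ _ hT₁
  obtain ⟨W, bW, ε, hbW, hε⟩ := EtLift.exists_lift (IsAlgSpace.yon_obj T) (IsAlgSpace.yon_obj T') hj.1
    ((yon S).map q₁) ((repWith_yon_map_iff _ q₁).2 hq₁e)
  have sqW : IsPullback ((yon S).map q₁) (ε.hom ≫ pullback.snd _ _) ((yon S).map j) bW := by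
    rw [← hε]
    exact (IsPullback.of_hasPullback _ _).of_iso ε.symm (Iso.refl _) (Iso.refl _) (Iso.refl _)
      (by simp) (by simp) (by simp) (by simp)
  obtain ⟨β, rfl⟩ := (yon S).map_surjective bW
  have hFW : IsFOThickMor (ε.hom ≫ pullback.snd _ _) := isFOThickMor_baseChange (IsAlgSpace.yon_obj T') hj sqW
  obtain ⟨c, ⟨hc1, hc2⟩, -⟩ := HU.2.2 (IsAlgSpace.yon_obj T₁) (IsAlgSpace.yon_obj W) _ x₁
    ((yon S).map β ≫ b₀) hFW (by
      rw [← Category.assoc _ ((yon S).map β), ← sqW.w, Category.assoc, hw, ← Category.assoc x₁, hT₁.w,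
        Category.assoc])
  have hβe : Etale β.left := (repWith_yon_map_iff _ β).1 hbW
  have hβs : Surjective β.left := ⟨fun x => by
    have : Surjective j.left := ((isThickMor_yon_map_iff j).1 hj.1).2
    obtain ⟨x₀, rfl⟩ := j.left.surjective x
    obtain ⟨x₁', rfl⟩ := q₁.left.surjective x₀
    obtain ⟨k, hk⟩ := (yon S).map_surjective (ε.hom ≫ pullback.snd ((yon S).map j) ((yon S).map β))
    have hw' := sqW.w
    rw [← hk, ← Functor.map_comp, ← Functor.map_comp] at hw'
    refine ⟨k.left x₁', ?_⟩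
    rw [← Scheme.Hom.comp_apply, ← Scheme.Hom.comp_apply]
    exact congrArg (fun f => f.left x₁') ((yon S).map_injective hw').symm⟩
  have hβ1 : RepWith @Etale ((yon S).map β) := (repWith_yon_map_iff _ β).2 hβe
  have hβ2 : RepWith @Surjective ((yon S).map β) := (repWith_yon_map_iff _ β).2 hβs
  have := Groth.Agent.AlgSpLib.epi_of_etale_surjective hβ1 hβ2
  obtain ⟨W₂, w₂, f₂, hW₂⟩ := hβ1.rep ((yon S).map β)
  obtain ⟨w₁, rfl⟩ := (yon S).map_surjective f₂
  have : Sheaf.IsLocallySurjective ((yon S).map β) := isLocallySurjective_of_etale_surjective hβ1 hβ2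
  obtain ⟨k, hk⟩ := (yon S).map_surjective (ε.hom ≫ pullback.snd ((yon S).map j) ((yon S).map β))
  have hagree : (yon S).map w₁ ≫ c ≫ p = (yon S).map w₂ ≫ c ≫ p := by
    obtain ⟨D, jD, eD, hD⟩ := hj.1.rep ((yon S).map (w₁ ≫ β))
    have hw12 : (yon S).map (w₁ ≫ β) = (yon S).map (w₂ ≫ β) := by
      rw [Functor.map_comp, Functor.map_comp, hW₂.w]
    refine uniq jD (isFOThickMor_baseChange (IsAlgSpace.yon_obj T') hj hD) (eD ≫ a₀) _ _ ?_ ?_ ?_
    · have e1 : eD ≫ (yon S).map j = ((yon S).map jD ≫ (yon S).map w₁) ≫ (yon S).map β := by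
        rw [hD.w, Functor.map_comp, Category.assoc]
      rw [← Category.assoc, ← sqW.lift_snd eD _ e1, Category.assoc, ← Category.assoc _ c p, hc1, Category.assoc x₁, ← hi, ← Category.assoc x₁,
        hT₁.w, ← Category.assoc, ← Category.assoc, sqW.lift_fst]
    · have e2 : eD ≫ (yon S).map j = ((yon S).map jD ≫ (yon S).map w₂) ≫ (yon S).map β := by
        rw [hD.w, hw12, Functor.map_comp, Category.assoc]
      rw [← Category.assoc, ← sqW.lift_snd eD _ e2, Category.assoc, ← Category.assoc _ c p, hc1, Category.assoc x₁, ← hi, ← Category.assoc x₁,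
        hT₁.w, ← Category.assoc, ← Category.assoc, sqW.lift_fst]
    · rw [Category.assoc ((yon S).map w₁), Category.assoc ((yon S).map w₂), Category.assoc c p, hh', hc2, reassoc_of% hW₂.w]
  obtain ⟨a', ha'⟩ := exists_desc_of_kernelPair hW₂ (c ≫ p) hagree
  refine ⟨a', ?_, ?_⟩
  · have := Groth.Agent.AlgSpLib.epi_of_etale_surjective ((repWith_yon_map_iff _ q₁).2 hq₁e)
      ((repWith_yon_map_iff _ q₁).2 hq₁s)
    rw [← cancel_epi ((yon S).map q₁), ← Category.assoc, sqW.w, Category.assoc, ha', ← Category.assoc _ c p, hc1, Category.assoc x₁, ← hi,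
      reassoc_of% hT₁.w]
  · rw [← cancel_epi ((yon S).map β), ← Category.assoc, ha', Category.assoc, hh', hc2]

end Groth.Agent.AlgSpUnivThick
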