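import Groth.Agent.AlgSpUnivThick.Exists
import Groth.Agent.AlgSpDec.MonoRep
import Groth.Agent.S1434

/-! The first infinitesimal neighbourhood is a universal first order thickening. -/

set_option autoImplicit false
set_option backward.isDefEq.respectTransparency false
set_option backward.isDefEq.respectTransparency.types false

universe u

open CategoryTheory CategoryTheory.Limits AlgebraicGeometry Opposite AlgSp MorphismProperty
open Groth.Agent.AlgSpLib

namespace Groth.Agent.AlgSpUnivThick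

variable {S : Scheme.{u}}

/-- A closed subscheme inside its square is a first order thickening. -/
theorem isFirstOrderThickening_of_ker_sq {W Wn V : Scheme.{u}} [IsAffine V] (snd : W ⟶ V) (sndn : Wn ⟶ V)
    [IsClosedImmersion snd] [IsClosedImmersion sndn] (hker : sndn.ker = snd.ker ^ 2) (j : W ⟶ Wn)
    (hj : j ≫ sndn = snd) : MoreMor.IsFirstOrderThickening j := by
  have : IsClosedImmersion (j ≫ sndn) := hj ▸ inferInstance
  have hcl : IsClosedImmersion j := IsClosedImmersion.of_comp j sndn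
  have hWn : IsAffine Wn := isAffine_of_isAffineHom sndn
  refine ⟨⟨hcl, ⟨fun y => ?_⟩⟩, Groth.Agent.MorLib.ker_mul_ker_eq_bot_of_isAffine _ ?_⟩
  · have hy : sndn y ∈ (sndn.ker.support : Set ↥V) := by
      rw [Scheme.Hom.support_ker]
      exact subset_closure ⟨y, rfl⟩
    rw [hker, Scheme.IdealSheafData.support_pow_succ snd.ker 1, Scheme.Hom.support_ker] at hy
    erw [snd.isClosedEmbedding.isClosed_range.closure_eq] at hy
    obtain ⟨x, hx⟩ := hy
    refine ⟨x, sndn.isClosedEmbedding.injective ?_⟩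
    rw [← Scheme.Hom.comp_apply, hj, hx]
  · rw [pow_two, eq_bot_iff, Ideal.mul_le]
    intro x hx y hy
    have hs : Function.Surjective sndn.appTop := sndn.app_surjective ⊤ (isAffineOpen_top V)
    obtain ⟨X, rfl⟩ := hs x
    obtain ⟨Y, rfl⟩ := hs y
    have hT : ∀ Z : Γ(V, ⊤), sndn.appTop Z ∈ RingHom.ker j.appTop.hom →
        Z ∈ snd.ker.ideal ⟨⊤, isAffineOpen_top V⟩ := fun Z hZ => by
      rw [Scheme.Hom.ker_apply, RingHom.mem_ker]
      change snd.appTop Z = 0
      rw [← hj, Scheme.Hom.comp_appTop]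
      exact hZ
    have hXY : X * Y ∈ sndn.ker.ideal ⟨⊤, isAffineOpen_top V⟩ := by
      rw [hker, Scheme.IdealSheafData.ideal_pow, Pi.pow_apply, pow_two]
      exact Ideal.mul_mem_mul (hT X hx) (hT Y hy)
    rw [Scheme.Hom.ker_apply, RingHom.mem_ker] at hXY
    rw [Ideal.mem_bot]
    exact (map_mul sndn.appTop.hom X Y).symm.trans hXY

open Groth.Agent.AlgSpDec in
set_option maxHeartbeats 400000 in
theorem isUnivFOThick_infNbhd {Z U Z₁ : Sp S} (hUa : IsAlgSpace U) {c : Z ⟶ U}
    {j : Z ⟶ Z₁} {k : Z₁ ⟶ U} (hN : IsInfNbhd 1 c j k) : IsUnivFOThick c j k := by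
  obtain ⟨hjk, hc, hk, hker⟩ := hN
  have hmk : Mono k := AlgSpPts.mono_of_repWith (repWith_mono (fun _ _ h (hh : IsClosedImmersion h) => inferInstanceAs (Mono h)) _ hk)
  have sqj : IsPullback (𝟙 Z) j c k := by
    refine ⟨⟨by rw [Category.id_comp, hjk]⟩, ⟨PullbackCone.IsLimit.mk _ (fun s => s.fst) (fun s => Category.comp_id _)
      (fun s => ?_) (fun s l h1 _ => by simpa using h1)⟩⟩
    rw [← cancel_mono k, Category.assoc, hjk]
    exact s.condition
  have hjc : RepWith @IsClosedImmersion j := repWith_of_isPullback sqj hc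
  have piece : ∀ x : Points Z₁, ∃ (Wn W : Over S) (p : (yon S).obj Wn ⟶ Z₁) (iU : W ⟶ Wn)
      (tU : (yon S).obj W ⟶ Z), RepWith @Etale p ∧ x ∈ Set.range (Points.ofPt p) ∧
        IsPullback tU ((yon S).map iU) j p ∧ MoreMor.IsFirstOrderThickening iU.left := by
    intro x
    obtain ⟨V, b, v, hV, hb, hv⟩ := exists_affine_chart_at hUa (Points.map k x)
    obtain ⟨Wn, sndn, fstn, hWn⟩ := hk.rep b
    obtain ⟨W, snd, fst, hW⟩ := hc.rep b
    have hcn : IsClosedImmersion sndn.left := hk.2 b _ _ hWn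
    have hcw : IsClosedImmersion snd.left := hc.2 b _ _ hW
    have : IsAffine V.left := hV
    obtain ⟨iU, hiU⟩ := (yon S).map_surjective (hWn.lift (fst ≫ j) ((yon S).map snd) (by
      rw [Category.assoc, hjk, hW.w]))
    have h1 : iU ≫ sndn = snd := (yon S).map_injective (by rw [Functor.map_comp, hiU, hWn.lift_snd])
    have sq : IsPullback fst ((yon S).map iU) j fstn := by
      refine (IsPullback.of_right (h₁₂ := (yon S).map sndn) ?_ (by rw [hiU, hWn.lift_fst]) hWn.flip).flip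
      rw [← Functor.map_comp, h1, hjk]
      exact hW.flip
    refine ⟨Wn, W, fstn, iU, fst, repWith_of_isPullback hWn.flip hb, ?_, sq,
      isFirstOrderThickening_of_ker_sq snd.left sndn.left
        (by simpa only [Nat.reduceAdd] using hker b fst snd fstn sndn hV hb hW hWn) iU.left
        (by rw [← Over.comp_left, h1])⟩
    obtain ⟨z, hz1, -⟩ := exists_point_of_isPullback hWn (x := x) (y := Points.ofScheme V v)
      (hv.symm.trans (Points.ofPt_eq_map_ofScheme b v))
    obtain ⟨w, rfl⟩ := (Points.schemeHomeo Wn).surjective z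
    exact ⟨w, (Points.ofPt_eq_map_ofScheme _ _).trans hz1⟩
  have hjs : RepWith @Surjective j := repWith_surjective_of_surjective hjc.rep fun x => by
    obtain ⟨Wn, W, p, iU, tU, -, ⟨w, rfl⟩, sq, hFO⟩ := piece x
    obtain ⟨w₀, rfl⟩ := hFO.1.2.surj w
    exact ⟨Points.ofPt tU w₀, by rw [Points.map_ofPt, sq.w, ofPt_comp]⟩
  have hth : IsThickMor j := ⟨hjc.rep, fun _ _ g f₁ f₂ sq => ⟨hjc.2 g f₁ f₂ sq, hjs.2 g f₁ f₂ sq⟩⟩
  have hFO : IsFOThickMor j := ⟨hth, fun V₀ W₀ b₀ f₁ f₂ hV₀ _ sq =>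
    haveI : IsAffine V₀.left := hV₀
    sqZero_of_charts hth (fun x => by
      obtain ⟨Wn, W, p, iU, tU, hp, hx, sq, h⟩ := piece x
      exact ⟨Wn, W, p, iU, tU, hp, hx, sq, isFOThickMor_yon iU h⟩) b₀ f₁ f₂ sq⟩
  refine (isUnivFOThick_iff c j k hFO hjk).2 fun T T' t hT ht a b hw => ?_
  suffices hex : ∃ a' : (yon S).obj T' ⟶ Z₁, a' ≫ k = b by
    obtain ⟨a', ha'⟩ := hex
    refine ⟨a', ⟨?_, ha'⟩, fun y hy => by rw [← cancel_mono k, hy.2, ha']⟩
    rw [← cancel_mono k, Category.assoc, Category.assoc, ha', hjk, hw]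
  choose V bV v hV hbV hv using fun x : ↥T'.left => exists_affine_chart_at hUa (Points.ofPt b x)
  choose B qB r hB using fun x => (hbV x).rep b
  have hqB : ∀ x, Etale (qB x).left := fun x => (hbV x).2 b _ _ (hB x)
  let π : sigmaOver B ⟶ T' := Over.homMk (Sigma.desc fun x => (qB x).left) (by
    apply Sigma.hom_ext
    intro i
    change Sigma.ι _ i ≫ Sigma.desc _ ≫ T'.hom = Sigma.ι _ i ≫ Sigma.desc _
    rw [Sigma.ι_desc_assoc, Sigma.ι_desc]
    exact Over.w (qB i))
  have hπι : ∀ i, sigmaι B i ≫ π = qB i := fun i => Over.OverMorphism.ext (Sigma.ι_desc _ i)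
  have hπe : Etale π.left := IsZariskiLocalAtSource.sigmaDesc (P := @Etale) hqB
  have hπs : Surjective π.left := ⟨fun x => by
    obtain ⟨r₀, hr₀⟩ := (yon S).map_surjective (r x)
    obtain ⟨w, -, hw⟩ := exists_ofPt_of_eq (p := r₀) (hr₀.symm ▸ hB x) (hv x)
    refine ⟨(sigmaι B x).left w, ?_⟩
    rw [← Scheme.Hom.comp_apply, ← Over.comp_left, hπι, hw]⟩
  have lift : ∀ x, ∃ l : (yon S).obj (B x) ⟶ Z₁, l ≫ k = (yon S).map (qB x) ≫ b := by
    intro x
    have : IsAffine (V x).left := hV x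
    obtain ⟨Wn, sndn, fstn, hWn⟩ := hk.rep (bV x)
    obtain ⟨W, snd, fst, hW⟩ := hc.rep (bV x)
    have hcn : IsClosedImmersion sndn.left := hk.2 (bV x) _ _ hWn
    have hcw : IsClosedImmersion snd.left := hc.2 (bV x) _ _ hW
    obtain ⟨T₀, t₀, e₀, hT₀⟩ := ht.1.rep ((yon S).map (qB x))
    obtain ⟨e₀', rfl⟩ := (yon S).map_surjective e₀
    have hFO₀ : MoreMor.IsFirstOrderThickening t₀.left :=
      Groth.Agent.UnivThick.isFirstOrderThickening_baseChange (isPullback_left hT₀).flip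
        (isFirstOrderThickening_of_isFOThickMor_yon_map hT ht)
    obtain ⟨r', hr'⟩ := (yon S).map_surjective (r x)
    have hw₀ : ((yon S).map e₀' ≫ a) ≫ c = (yon S).map (t₀ ≫ r') ≫ bV x := by
      rw [Category.assoc, ← hw, reassoc_of% hT₀.w, Functor.map_comp, Category.assoc, hr', (hB x).w]
    obtain ⟨a₀, ha₀⟩ := (yon S).map_surjective (hW.lift _ _ hw₀)
    have h0 : a₀ ≫ snd = t₀ ≫ r' := (yon S).map_injective (by rw [Functor.map_comp, ha₀, hW.lift_snd])
    obtain ⟨a₁, ha₁, -⟩ := Groth.Agent.S1434.result snd.left.ker t₀.left hFO₀ (a₀.left ≫ snd.left.toImage) r'.left (by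
      rw [Category.assoc]
      erw [Scheme.Hom.toImage_imageι]
      rw [← Over.comp_left, h0, Over.comp_left])
    have hle : sndn.left.ker ≤ r'.left.ker := by
      have h2 : sndn.left.ker = snd.left.ker ^ 2 := by
        simpa only [Nat.reduceAdd] using hker (bV x) fst snd fstn sndn (hV x) (hbV x) hW hWn
      have h3 : (snd.left.ker ^ 2).subschemeι.ker ≤ (a₁ ≫ (snd.left.ker ^ 2).subschemeι).ker :=
        Scheme.Hom.le_ker_comp a₁ _
      rw [Scheme.IdealSheafData.ker_subschemeι, ha₁] at h3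
      exact h2.le.trans h3
    obtain ⟨l₀, hl₀⟩ : ∃ l₀ : (B x).left ⟶ Wn.left, l₀ ≫ sndn.left = r'.left :=
      ⟨IsClosedImmersion.lift sndn.left r'.left hle, IsClosedImmersion.lift_fac _ _ _⟩
    obtain ⟨l, hl⟩ : ∃ l : B x ⟶ Wn, l ≫ sndn = r' := by
      have hw₁ : l₀ ≫ Wn.hom = (B x).hom :=
        (congrArg (l₀ ≫ ·) (Over.w sndn).symm).trans
          ((Category.assoc _ _ _).symm.trans ((congrArg (· ≫ (V x).hom) hl₀).trans (Over.w r')))
      exact ⟨Over.homMk l₀ hw₁, Over.OverMorphism.ext hl₀⟩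
    exact ⟨(yon S).map l ≫ fstn, by rw [Category.assoc, hWn.w, ← Functor.map_comp_assoc, hl, hr', (hB x).w]⟩
  choose l hl using lift
  obtain ⟨L, hL⟩ := exists_hom_sigma B l
  have hLk : L ≫ k = (yon S).map π ≫ b := hom_ext_sigma B fun i => by
    rw [← Category.assoc, hL, hl, ← Functor.map_comp_assoc, hπι]
  have hπ1 : RepWith @Etale ((yon S).map π) := (repWith_yon_map_iff _ π).2 hπe
  have hπ2 : RepWith @Surjective ((yon S).map π) := (repWith_yon_map_iff _ π).2 hπs
  have := Groth.Agent.AlgSpLib.epi_of_etale_surjective hπ1 hπ2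
  have : Sheaf.IsLocallySurjective ((yon S).map π) := isLocallySurjective_of_etale_surjective hπ1 hπ2
  obtain ⟨W₂, w₂, f₂, hW₂⟩ := hπ1.rep ((yon S).map π)
  obtain ⟨w₁, rfl⟩ := (yon S).map_surjective f₂
  obtain ⟨a', ha'⟩ := exists_desc_of_kernelPair hW₂ L (by
    rw [← cancel_mono k, Category.assoc, Category.assoc, hLk, reassoc_of% hW₂.w])
  exact ⟨a', by rw [← cancel_epi ((yon S).map π), ← Category.assoc, ha', hLk]⟩

end Groth.Agent.AlgSpUnivThick
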