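import Groth.Agent.AlgSpUnivThick.Exists
import Groth.Agent.AlgSpLib.EtaleSmoothLocal
import Groth.Agent.AlgSpDec.LimDescentIso

/-! Descent and localisation of universal first order thickenings. -/

set_option autoImplicit false
set_option backward.isDefEq.respectTransparency false
set_option backward.isDefEq.respectTransparency.types false

universe u

open CategoryTheory CategoryTheory.Limits AlgebraicGeometry Opposite AlgSp MorphismProperty
open Groth.Agent.AlgSpLib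

namespace Groth.Agent.AlgSpUnivThick

variable {S : Scheme.{u}}

theorem isEtaleMor_of_precomp {X Y : Sp S} (hX : IsAlgSpace X) (hY : IsAlgSpace Y) {f : X ⟶ Y} {U : Over S}
    {a : (yon S).obj U ⟶ X} (ha : RepWith @Etale a) (has : RepWith @Surjective a)
    (h : RepWith @Etale (a ≫ f)) : IsEtaleMor f := by
  obtain ⟨W, b, hb, hbs⟩ := hY.atlas
  obtain ⟨A, g, fst, sq⟩ := h.rep b
  have h1 : RepWith @Etale fst := repWith_of_isPullback sq.flip hb
  have h2 : RepWith @Surjective fst := repWith_of_isPullback sq.flip hbs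
  exact (isEtaleMor_iff_locP hX hY f).2 (locP_of_chart (repWith_comp h1 ha) (repWith_comp h2 has) hb
    (by rw [Category.assoc, sq.w]) (h.2 b _ _ sq))

theorem mono_iff_thick {T T' : Sp S} {j : T ⟶ T'} (hj : IsThickMor j) : Function.Surjective (Points.map j) :=
  surjective_map_of_repWith (repWith_mono (P := thick) (fun _ _ _ hh => hh.2) _ hj)

/-- Two etale-compatible thickenings form a cartesian square. -/
theorem isPullback_of_etale {Z Z' Y Y' : Sp S} (hZ : IsAlgSpace Z) (hY : IsAlgSpace Y)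
    (hZ' : IsAlgSpace Z') (hY' : IsAlgSpace Y') {e : Z ⟶ Y} (he : IsEtaleMor e) {iZ : Z ⟶ Z'} {iY : Y ⟶ Y'}
    (hiZ : IsFOThickMor iZ) (hiY : IsFOThickMor iY) {f' : Z' ⟶ Y'} (hf' : IsEtaleMor f')
    (w : iZ ≫ f' = e ≫ iY) : IsPullback e iZ iY f' := by
  have hP : IsAlgSpace (pullback iY f') := isAlgSpace_of_isPullback (IsPullback.of_hasPullback iY f') hY hZ' hY'
  let φ : Z ⟶ pullback iY f' := pullback.lift e iZ w.symm
  have hfst : IsEtaleMor (pullback.fst iY f') :=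
    isEtaleMor_of_isPullback (IsPullback.of_hasPullback iY f').flip hZ' hY' hY hf'
  have hφe : IsEtaleMor φ := isEtaleMor_of_comp hZ hP hY (by rwa [pullback.lift_fst]) hfst
  have hj : IsFOThickMor (pullback.snd iY f') :=
    isFOThickMor_baseChange hY' hiY (IsPullback.of_hasPullback iY f')
  have : Mono (pullback.snd iY f') := mono_of_thick hj.1
  have hφs : IsSurjectiveMor φ := fun y => by
    obtain ⟨z, hz⟩ := mono_iff_thick hiZ.1 (Points.map (pullback.snd iY f') y)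
    refine ⟨z, ?_⟩
    apply (isHomeomorph_map_of_thick hZ' hj.1).bijective.1
    rw [← Points.map_comp, pullback.lift_snd, hz]
  have : Epi φ := Groth.Agent.AlgSpDec.epi_of_etale_surjective hZ hP φ hφe hφs
  have : Mono φ := by
    have : Mono (φ ≫ pullback.snd iY f') := by rw [pullback.lift_snd]; exact mono_of_thick hiZ.1
    exact mono_of_mono φ (pullback.snd iY f')
  have : IsIso φ := isIso_of_mono_of_epi φ
  exact (IsPullback.of_hasPullback iY f').of_iso (asIso φ).symm (Iso.refl _) (Iso.refl _) (Iso.refl _)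
    (by simp [φ]) (by simp [φ]) (by simp) (by simp)

open Groth.Agent.AlgSpDec in
/-- Universality descends along etale surjections. -/
theorem isUnivFOThick_descend {Z Y Z' Y' X : Sp S} (hZ : IsAlgSpace Z) (hY : IsAlgSpace Y)
    (hZ' : IsAlgSpace Z') (hY'a : IsAlgSpace Y') {e : Z ⟶ Y} (he : IsEtaleMor e) (hes : IsSurjectiveMor e)
    {hYX : Y ⟶ X} {iZ : Z ⟶ Z'} {iY : Y ⟶ Y'} (hiZ : IsFOThickMor iZ) (hiY : IsFOThickMor iY)
    {f' : Z' ⟶ Y'} (hf' : IsEtaleMor f') (w : iZ ≫ f' = e ≫ iY) {hY' : Y' ⟶ X} (w' : iY ≫ hY' = hYX)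
    (HU : IsUnivFOThick (e ≫ hYX) iZ (f' ≫ hY')) : IsUnivFOThick hYX iY hY' := by
  have sq := isPullback_of_etale hZ hY hZ' hY'a he hiZ hiY hf' w
  obtain ⟨U, aU, haU, haUs⟩ := hZ.atlas
  have hUe : RepWith @Etale (aU ≫ e) := he aU haU
  have hUs : RepWith @Surjective (aU ≫ e) := repWith_surjective_of_surjective hUe.rep fun y => by
    obtain ⟨z, rfl⟩ := hes y
    obtain ⟨x, rfl⟩ := surjective_map_of_repWith haUs z
    exact ⟨x, by rw [Points.map_comp]⟩
  obtain ⟨A, aA, haA, haAs⟩ := hZ'.atlas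
  have hAe : RepWith @Etale (aA ≫ f') := hf' aA haA
  have hAs : RepWith @Surjective (aA ≫ f') := repWith_surjective_of_surjective hAe.rep fun y => by
    obtain ⟨y₀, rfl⟩ := mono_iff_thick hiY.1 y
    obtain ⟨z, rfl⟩ := hes y₀
    obtain ⟨x, hx⟩ := surjective_map_of_repWith haAs (Points.map iZ z)
    exact ⟨x, by rw [Points.map_comp, hx, ← Points.map_comp, w, Points.map_comp]⟩
  have uniq : ∀ {T T' : Over S} (j : T ⟶ T') (_ : IsFOThickMor ((yon S).map j))
      (a₀ : (yon S).obj T ⟶ Y) (x y : (yon S).obj T' ⟶ Y'),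
      (yon S).map j ≫ x = a₀ ≫ iY → (yon S).map j ≫ y = a₀ ≫ iY → x ≫ hY' = y ≫ hY' → x = y := by
    intro T T' j hj a₀ x y hx hy hxy
    obtain ⟨B, cB, xA, hB⟩ := hAe.rep x
    have := Groth.Agent.AlgSpLib.epi_of_etale_surjective ((repWith_yon_map_iff _ cB).2 (hAe.2 x _ _ hB))
      ((repWith_yon_map_iff _ cB).2 (hAs.2 x _ _ hB))
    rw [← cancel_epi ((yon S).map cB)]
    obtain ⟨B₀, jB, eB, hB₀⟩ := hj.1.rep ((yon S).map cB)
    have hFB : IsFOThickMor ((yon S).map jB) := isFOThickMor_baseChange (IsAlgSpace.yon_obj T') hj hB₀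
    have hc1 : (xA ≫ aA) ≫ f' = (yon S).map cB ≫ x := by rw [Category.assoc, hB.w]
    have wα : (eB ≫ a₀) ≫ iY = ((yon S).map jB ≫ xA ≫ aA) ≫ f' := by
      rw [Category.assoc, ← hx, ← Category.assoc, hB₀.w, Category.assoc, ← hc1]
      simp only [Category.assoc]
    obtain ⟨m, ⟨hm1, hm2⟩, -⟩ := existsUnique_lift_of_formallyEtale (isFormallyEtaleMor_of_isEtaleMor hZ' hf')
      (IsAlgSpace.yon_obj B) hFB ((yon S).map jB ≫ xA ≫ aA) ((yon S).map cB ≫ y) (by
        rw [← wα, Category.assoc, ← hy, ← Category.assoc, hB₀.w, Category.assoc])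
    have hm : m = xA ≫ aA := univ_ext HU (IsAlgSpace.yon_obj B₀) (IsAlgSpace.yon_obj B) hFB (sq.lift _ _ wα)
      (by rw [hm1, sq.lift_snd]) (sq.lift_snd _ _ wα).symm
      (by rw [← Category.assoc, hm2, ← Category.assoc, hc1, Category.assoc, Category.assoc, hxy])
    rw [← hc1, ← hm, hm2]
  refine (isUnivFOThick_iff hYX iY hY' hiY w').2 fun T T' j hT hj a₀ b₀ hw => ?_
  suffices hex : ∃ a' : (yon S).obj T' ⟶ Y', (yon S).map j ≫ a' = a₀ ≫ iY ∧ a' ≫ hY' = b₀ by
    obtain ⟨a', h1, h2⟩ := hex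
    exact ⟨a', ⟨h1, h2⟩, fun y hy => uniq j hj a₀ y a' hy.1 h1 (hy.2.trans h2.symm)⟩
  obtain ⟨T₁, q₁, x₁, hT₁⟩ := hUe.rep a₀
  have hq₁e : Etale q₁.left := hUe.2 a₀ _ _ hT₁
  have hq₁s : Surjective q₁.left := hUs.2 a₀ _ _ hT₁
  obtain ⟨W, bW, ε, hbW, hε⟩ := EtLift.exists_lift (IsAlgSpace.yon_obj T) (IsAlgSpace.yon_obj T') hj.1
    ((yon S).map q₁) ((repWith_yon_map_iff _ q₁).2 hq₁e)
  have sqW : IsPullback ((yon S).map q₁) (ε.hom ≫ pullback.snd _ _) ((yon S).map j) bW := by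
    rw [← hε]
    exact (IsPullback.of_hasPullback _ _).of_iso ε.symm (Iso.refl _) (Iso.refl _) (Iso.refl _)
      (by simp) (by simp) (by simp) (by simp)
  obtain ⟨β, rfl⟩ := (yon S).map_surjective bW
  obtain ⟨k, hk⟩ := (yon S).map_surjective (ε.hom ≫ pullback.snd ((yon S).map j) ((yon S).map β))
  rw [← hk] at sqW
  have hFW : IsFOThickMor ((yon S).map k) := isFOThickMor_baseChange (IsAlgSpace.yon_obj T') hj sqW
  have hT₁w : (x₁ ≫ aU) ≫ e = (yon S).map q₁ ≫ a₀ := by rw [Category.assoc, hT₁.w]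
  obtain ⟨c, ⟨hc1, hc2⟩, -⟩ := HU.2.2 (IsAlgSpace.yon_obj T₁) (IsAlgSpace.yon_obj W) ((yon S).map k) (x₁ ≫ aU)
    ((yon S).map β ≫ b₀) hFW (by
      rw [← Category.assoc _ ((yon S).map β), ← sqW.w, Category.assoc, hw, ← Category.assoc _ a₀, ← hT₁w,
        Category.assoc])
  have hcf : (yon S).map k ≫ c ≫ f' = ((yon S).map q₁ ≫ a₀) ≫ iY := by
    rw [← Category.assoc _ c f', hc1, Category.assoc, w, ← Category.assoc _ e iY, hT₁w]
  have hβe : Etale β.left := (repWith_yon_map_iff _ β).1 hbW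
  have hβs : Surjective β.left := ⟨fun x => by
    have : Surjective j.left := ((isThickMor_yon_map_iff j).1 hj.1).2
    obtain ⟨x₀, rfl⟩ := j.left.surjective x
    obtain ⟨x₁', rfl⟩ := q₁.left.surjective x₀
    have hw' := sqW.w
    rw [← Functor.map_comp, ← Functor.map_comp] at hw'
    refine ⟨k.left x₁', ?_⟩
    rw [← Scheme.Hom.comp_apply, ← Scheme.Hom.comp_apply]
    exact congrArg (fun f => f.left x₁') ((yon S).map_injective hw').symm⟩
  have hβ1 : RepWith @Etale ((yon S).map β) := (repWith_yon_map_iff _ β).2 hβe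
  have hβ2 : RepWith @Surjective ((yon S).map β) := (repWith_yon_map_iff _ β).2 hβs
  have := Groth.Agent.AlgSpLib.epi_of_etale_surjective hβ1 hβ2
  have : Sheaf.IsLocallySurjective ((yon S).map β) := isLocallySurjective_of_etale_surjective hβ1 hβ2
  obtain ⟨W₂, w₂, f₂, hW₂⟩ := hβ1.rep ((yon S).map β)
  obtain ⟨w₁, rfl⟩ := (yon S).map_surjective f₂
  have hagree : (yon S).map w₁ ≫ c ≫ f' = (yon S).map w₂ ≫ c ≫ f' := by
    obtain ⟨D, jD, eD, hD⟩ := hj.1.rep ((yon S).map (w₁ ≫ β))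
    have key : ∀ (v : W₂ ⟶ W), (yon S).map (v ≫ β) = (yon S).map (w₁ ≫ β) →
        (yon S).map jD ≫ (yon S).map v ≫ c ≫ f' = (eD ≫ a₀) ≫ iY := fun v hv => by
      have e1 : eD ≫ (yon S).map j = ((yon S).map jD ≫ (yon S).map v) ≫ (yon S).map β := by
        rw [hD.w, ← hv, Functor.map_comp, Category.assoc]
      rw [← Category.assoc, ← sqW.lift_snd eD _ e1, Category.assoc, hcf, ← Category.assoc _ _ iY,
        ← Category.assoc _ _ a₀, sqW.lift_fst]
    refine uniq jD (isFOThickMor_baseChange (IsAlgSpace.yon_obj T') hj hD) (eD ≫ a₀) _ _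
      (key w₁ rfl) (key w₂ (by rw [Functor.map_comp, Functor.map_comp, hW₂.w])) ?_
    rw [Category.assoc, Category.assoc, Category.assoc, Category.assoc, hc2, reassoc_of% hW₂.w]
  obtain ⟨a', ha'⟩ := exists_desc_of_kernelPair hW₂ (c ≫ f') hagree
  refine ⟨a', ?_, ?_⟩
  · have := Groth.Agent.AlgSpLib.epi_of_etale_surjective ((repWith_yon_map_iff _ q₁).2 hq₁e)
      ((repWith_yon_map_iff _ q₁).2 hq₁s)
    rw [← cancel_epi ((yon S).map q₁), ← Category.assoc, sqW.w, Category.assoc, ha', hcf, Category.assoc]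
  · rw [← cancel_epi ((yon S).map β), ← Category.assoc, ha', Category.assoc, hc2]

/-- Localisation: the induced map of universal thickenings over etale maps is etale. -/
theorem isEtaleMor_of_etale_localization {Z X Z' V U V' : Sp S} (hZ : IsAlgSpace Z)
    (hZ' : IsAlgSpace Z') (hV : IsAlgSpace V) (hUa : IsAlgSpace U) (hV' : IsAlgSpace V')
    {h : Z ⟶ X} {iZ : Z ⟶ Z'} {hZX : Z' ⟶ X} (HZ : IsUnivFOThick h iZ hZX) {v : V ⟶ Z} (hv : IsEtaleMor v)
    {w : U ⟶ X} (hw : IsEtaleMor w) {ψ : V ⟶ U} (c : ψ ≫ w = v ≫ h) {iV : V ⟶ V'} {hV'U : V' ⟶ U}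
    (HV : IsUnivFOThick ψ iV hV'U) {e' : V' ⟶ Z'} (he1 : iV ≫ e' = v ≫ iZ) (he2 : e' ≫ hZX = hV'U ≫ w) :
    IsEtaleMor e' := by
  obtain ⟨A, a, ha, has⟩ := hV.atlas
  have aA := IsAlgSpace.yon_obj A
  obtain ⟨B, bB, εB, hbB, hεB⟩ := EtLift.exists_lift hZ hZ' HZ.1.1 (a ≫ v) (hv a ha)
  have sB : IsPullback (a ≫ v) (εB.hom ≫ pullback.snd _ _) iZ bB := by
    rw [← hεB]
    exact (IsPullback.of_hasPullback _ _).of_iso εB.symm (Iso.refl _) (Iso.refl _) (Iso.refl _)
      (by simp) (by simp) (by simp) (by simp)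
  obtain ⟨C, bC, εC, hbC, hεC⟩ := EtLift.exists_lift hV hV' HV.1.1 a ha
  have sC : IsPullback a (εC.hom ≫ pullback.snd _ _) iV bC := by
    rw [← hεC]
    exact (IsPullback.of_hasPullback _ _).of_iso εC.symm (Iso.refl _) (Iso.refl _) (Iso.refl _)
      (by simp) (by simp) (by simp) (by simp)
  have aB := IsAlgSpace.yon_obj B
  have aC := IsAlgSpace.yon_obj C
  have HB : IsUnivFOThick ((a ≫ v) ≫ h) (εB.hom ≫ pullback.snd _ _) (bB ≫ hZX) :=
    isUnivFOThick_etale hZ' aB _ h iZ hZX HZ _ _ (isEtaleMor_of_repWith hbB) sB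
  have HC : IsUnivFOThick ((a ≫ ψ) ≫ w) (εC.hom ≫ pullback.snd _ _) ((bC ≫ hV'U) ≫ w) :=
    isUnivFOThick_comp (isUnivFOThick_etale hV' aC _ ψ iV hV'U HV _ _ (isEtaleMor_of_repWith hbC) sC)
      (isFormallyEtaleMor_of_isEtaleMor hUa hw)
  rw [show (a ≫ ψ) ≫ w = (a ≫ v) ≫ h by rw [Category.assoc, c, Category.assoc]] at HC
  obtain ⟨φ, ⟨hφ1, hφ2⟩, -⟩ := HB.2.2 aA aC _ (𝟙 _) ((bC ≫ hV'U) ≫ w) HC.1
    (by rw [Category.id_comp, HC.2.1])
  obtain ⟨φ', ⟨hφ1', hφ2'⟩, -⟩ := HC.2.2 aA aB _ (𝟙 _) (bB ≫ hZX) HB.1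
    (by rw [Category.id_comp, HB.2.1])
  rw [Category.id_comp] at hφ1 hφ1'
  let e : (yon S).obj C ≅ (yon S).obj B :=
    ⟨φ, φ',
      univ_ext HC aA aC HC.1 (𝟙 _) (by rw [← Category.assoc, hφ1, hφ1', Category.id_comp])
        (by rw [Category.comp_id, Category.id_comp]) (by rw [Category.id_comp, Category.assoc, hφ2', hφ2]),
      univ_ext HB aA aB HB.1 (𝟙 _) (by rw [← Category.assoc, hφ1', hφ1, Category.id_comp])
        (by rw [Category.comp_id, Category.id_comp]) (by rw [Category.id_comp, Category.assoc, hφ2, hφ2'])⟩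
  have hce : bC ≫ e' = φ ≫ bB := univ_ext HZ aA aC HC.1 (a ≫ v)
    (by rw [← Category.assoc, ← sC.w, Category.assoc, he1, Category.assoc])
    (by rw [← Category.assoc, hφ1, ← sB.w])
    (by rw [Category.assoc, he2, ← Category.assoc, ← hφ2, Category.assoc])
  have hbCs : RepWith @Surjective bC := repWith_surjective_of_surjective hbC.rep fun y => by
    obtain ⟨y₀, rfl⟩ := mono_iff_thick HV.1.1 y
    obtain ⟨x, rfl⟩ := surjective_map_of_repWith has y₀
    exact ⟨Points.map (εC.hom ≫ pullback.snd _ _) x, by rw [← Points.map_comp, ← sC.w, Points.map_comp]⟩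
  refine isEtaleMor_of_precomp hV' hZ' hbC hbCs ?_
  rw [hce]
  have : IsIso φ := e.isIso_hom
  exact repWith_comp (repWith_of_isIso _ φ) hbB

end Groth.Agent.AlgSpUnivThick
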